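import Cfsg.Agent.Lib.Helper48.FFT3
import Cfsg.Agent.Lib.Helper11.Solv
import Cfsg.Agent.S0598
import Cfsg.Agent.S0610
import Cfsg.Agent.S0611
import Cfsg.Agent.S0617

set_option autoImplicit false

namespace Cfsg.Agent.Lib.Helper7.GlS3

open Subgroup

/-- `A` maximises `|B| * |C_V(B)|` among its subgroups. -/
def MaxProd {G : Type*} [Group G] (V A : Subgroup G) : Prop :=
  ∀ B : Subgroup G, B ≤ A →
    Nat.card B * Nat.card ↥(V ⊓ centralizer (B : Set G)) ≤
      Nat.card A * Nat.card ↥(V ⊓ centralizer (A : Set G))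

/-- faithful `2`-solvable group `M` with `O_2(M) = 1` on the elementary abelian 2-group `V` -/
structure Amb {G : Type*} [Group G] (V M : Subgroup G) : Prop where
  hV : Cfsg.IsElementaryAbelian 2 V
  hMV : M ≤ normalizer (V : Set G)
  hf : M ⊓ centralizer (V : Set G) = ⊥
  hsol : Cfsg.IsPSolvable 2 ↥M
  hO : Cfsg.pCore 2 ↥M = ⊥

/-- the subgroup of `M` generated by the best offenders on `V` -/
def BO {G : Type*} [Group G] (V M : Subgroup G) : Subgroup G :=
  ⨆ A : {A : Subgroup G // A ≤ M ∧ Cfsg.IsBestOffenderOn 2 V A}, (A : Subgroup G)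

/-- all images in `X` of the abelian subgroups of largest order of the Sylow 2-subgroups -/
def AAll (X : Type*) [Group X] : Set (Subgroup X) :=
  {A | ∃ T : Sylow 2 X, ∃ A' ∈ Cfsg.maxAbelianSubgroups ↥(T : Subgroup X),
    A = A'.map (T : Subgroup X).subtype}

end Cfsg.Agent.Lib.Helper7.GlS3
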