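import Cfsg.Agent.Lib.Helper7.GlS3.Defs

set_option autoImplicit false

namespace Cfsg.Agent.Lib.Helper7.GlS3

open Subgroup

/-- a 2-group normalising a four-group fixes a nonidentity element -/
theorem peel_fixed {G : Type*} [Group G] [Finite G] (A W : Subgroup G)
    (hA2 : IsPGroup 2 A) (hW4 : Nat.card W = 4) (hAW : A ≤ normalizer (W : Set G)) :
    ∃ w ∈ W, w ≠ 1 ∧ ∀ a ∈ A, a * w * a⁻¹ = w := by
  haveI : Fact (Nat.Prime 2) := ⟨Nat.prime_two⟩
  letI act : MulAction A W :=
    { smul := fun a w => ⟨(a : G) * w * (a : G)⁻¹, (mem_normalizer_iff.mp (hAW a.2) w).mp w.2⟩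
      one_smul := by
        intro w
        apply Subtype.ext
        show ((1 : A) : G) * w * ((1 : A) : G)⁻¹ = w
        simp
      mul_smul := by
        intro a b w
        apply Subtype.ext
        show ((a * b : A) : G) * w * ((a * b : A) : G)⁻¹ = (a : G) * ((b : G) * w * (b : G)⁻¹) * (a : G)⁻¹
        simp [mul_assoc] }
  have h1 : (1 : W) ∈ MulAction.fixedPoints A W := by
    intro a
    apply Subtype.ext
    show (a : G) * ((1 : W) : G) * (a : G)⁻¹ = ((1 : W) : G)
    simp
  obtain ⟨b, hb, hne⟩ := hA2.exists_fixed_point_of_prime_dvd_card_of_fixed_point W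
    (by rw [hW4]; norm_num) h1
  refine ⟨b, b.2, fun h => hne (Subtype.ext h.symm), fun a ha => ?_⟩
  have := hb ⟨a, ha⟩
  exact congrArg Subtype.val this

theorem peel {G : Type*} [Group G] [Finite G] (V A W : Subgroup G) (t : G)
    (hV : Cfsg.IsElementaryAbelian 2 V) (hAV : A ≤ normalizer (V : Set G))
    (hab : IsMulCommutative A) (hA2 : IsPGroup 2 A) (hmax : MaxProd V A) (ht : t ∈ A)
    (hWV : W ≤ V) (hW4 : Nat.card W = 4) (htW : t ∉ centralizer (W : Set G))
    (hAW : A ≤ normalizer (W : Set G)) :
    MaxProd V (A ⊓ centralizer (W : Set G)) ∧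
      ∀ a ∈ A, a ∈ centralizer (W : Set G) ∨ a * t ∈ centralizer (W : Set G) := by
  obtain ⟨w, hwW, hw1, hwA⟩ := peel_fixed A W hA2 hW4 hAW
  -- an element moved by t
  have hu : ∃ u ∈ W, t * u * t⁻¹ ≠ u := by
    by_contra hcon
    push_neg at hcon
    apply htW
    rw [mem_centralizer_iff]
    intro x hx
    have := hcon x hx
    calc x * t = (t * x * t⁻¹) * t := by rw [this]
      _ = t * x := by group
  obtain ⟨u, huW, hut⟩ := hu
  have hsq : ∀ x ∈ W, x * x = 1 := fun x hx => by
    have := hV.2 x (hWV hx)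
    rwa [pow_two] at this
  have hu1 : u ≠ 1 := by
    rintro rfl
    exact hut (by simp)
  have huw : u ≠ w := by
    rintro rfl
    exact hut (hwA t ht)
  -- W = {1, w, u, u w}
  have hWall : ∀ x ∈ W, x = 1 ∨ x = w ∨ x = u ∨ x = u * w := by
    classical
    have hsub : ({1, w, u, u * w} : Finset G) ⊆ (W : Set G).toFinite.toFinset := by
      intro x hx
      simp only [Finset.mem_insert, Finset.mem_singleton] at hx
      simp only [Set.Finite.mem_toFinset, SetLike.mem_coe]
      rcases hx with rfl | rfl | rfl | rfl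
      · exact W.one_mem
      · exact hwW
      · exact huW
      · exact W.mul_mem huW hwW
    have hcard : ({1, w, u, u * w} : Finset G).card = 4 := by
      rw [Finset.card_insert_of_notMem, Finset.card_insert_of_notMem,
        Finset.card_insert_of_notMem, Finset.card_singleton]
      · simp only [Finset.mem_singleton]
        intro h
        exact hw1 (by simpa using h.symm)
      · simp only [Finset.mem_insert, Finset.mem_singleton, not_or]
        refine ⟨fun h => huw h.symm, fun h => hu1 (by simpa using h.symm)⟩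
      · simp only [Finset.mem_insert, Finset.mem_singleton, not_or]
        refine ⟨fun h => hw1 h.symm, fun h => hu1 h.symm, fun h => ?_⟩
        apply huw
        have h2 := hsq w hwW
        calc u = u * (w * w) := by rw [h2, mul_one]
          _ = (u * w) * w := by group
          _ = w := by rw [← h, one_mul]
    have hcW : (W : Set G).toFinite.toFinset.card = 4 := by
      rw [← Set.ncard_eq_toFinset_card]
      exact hW4
    have heq := Finset.eq_of_subset_of_card_le hsub (by rw [hcard, hcW])
    intro x hx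
    have : x ∈ ({1, w, u, u * w} : Finset G) := by
      rw [heq]
      simpa using hx
    simpa using this
  -- action of A on u
  have hAu : ∀ a ∈ A, a * u * a⁻¹ = u ∨ a * u * a⁻¹ = u * w := by
    intro a ha
    have hmem : a * u * a⁻¹ ∈ W := (mem_normalizer_iff.mp (hAW ha) u).mp huW
    rcases hWall _ hmem with h | h | h | h
    · exfalso
      apply hu1
      calc u = a⁻¹ * (a * u * a⁻¹) * a := by group
        _ = 1 := by rw [h]; group
    · exfalso
      apply huw
      calc u = a⁻¹ * (a * u * a⁻¹) * a := by group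
        _ = a⁻¹ * (a * w * a⁻¹) * a := by rw [h, hwA a ha]
        _ = w := by group
    · exact Or.inl h
    · exact Or.inr h
  have htu : t * u * t⁻¹ = u * w := (hAu t ht).resolve_left hut
  have hcent : ∀ a : G, a * w * a⁻¹ = w → a * u * a⁻¹ = u → a ∈ centralizer (W : Set G) := by
    intro a h1 h2
    rw [mem_centralizer_iff]
    intro x hx
    have key : a * x * a⁻¹ = x := by
      rcases hWall x hx with rfl | rfl | rfl | rfl
      · simp
      · exact h1
      · exact h2
      · calc a * (u * w) * a⁻¹ = (a * u * a⁻¹) * (a * w * a⁻¹) := by group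
          _ = u * w := by rw [h1, h2]
    calc x * a = (a * x * a⁻¹) * a := by rw [key]
      _ = a * x := by group
  have hsplit : ∀ a ∈ A, a ∈ centralizer (W : Set G) ∨ a * t ∈ centralizer (W : Set G) := by
    intro a ha
    rcases hAu a ha with h | h
    · exact Or.inl (hcent a (hwA a ha) h)
    · right
      apply hcent
      · exact hwA _ (A.mul_mem ha ht)
      · calc a * t * u * (a * t)⁻¹ = a * (t * u * t⁻¹) * a⁻¹ := by group
          _ = a * (u * w) * a⁻¹ := by rw [htu]
          _ = (a * u * a⁻¹) * (a * w * a⁻¹) := by group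
          _ = u * w * w := by rw [h, hwA a ha]
          _ = u := by rw [mul_assoc, hsq w hwW, mul_one]
  refine ⟨?_, hsplit⟩
  set D := A ⊓ centralizer (W : Set G) with hD
  -- |A| ≤ 2 |D|
  have hAD : Nat.card A ≤ 2 * Nat.card D := by
    have hsub : (A : Set G) ⊆ (D : Set G) ∪ (fun x => x * t⁻¹) '' (D : Set G) := by
      intro a ha
      rcases hsplit a ha with h | h
      · exact Or.inl (mem_inf.mpr ⟨ha, h⟩)
      · exact Or.inr ⟨a * t, mem_inf.mpr ⟨A.mul_mem ha ht, h⟩, by group⟩
    have h1 : (A : Set G).ncard ≤ ((D : Set G) ∪ (fun x => x * t⁻¹) '' (D : Set G)).ncard :=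
      Set.ncard_le_ncard hsub (Set.toFinite _)
    have h2 := Set.ncard_union_le (D : Set G) ((fun x => x * t⁻¹) '' (D : Set G))
    have h3 : ((fun x => x * t⁻¹) '' (D : Set G)).ncard ≤ (D : Set G).ncard :=
      Set.ncard_image_le (Set.toFinite _)
    have hA' : Nat.card A = (A : Set G).ncard := rfl
    have hD' : Nat.card D = (D : Set G).ncard := rfl
    omega
  -- 2 |C_V(A)| ≤ |C_V(D)|
  have hlt : V ⊓ centralizer (A : Set G) < V ⊓ centralizer (D : Set G) := by
    refine lt_of_le_of_ne (inf_le_inf_left _ (centralizer_le inf_le_left)) fun heq => ?_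
    have hmem : u ∈ V ⊓ centralizer (D : Set G) := by
      refine mem_inf.mpr ⟨hWV huW, ?_⟩
      rw [mem_centralizer_iff]
      intro d hd
      have := mem_centralizer_iff.mp (mem_inf.mp hd).2 u huW
      exact this.symm
    rw [← heq] at hmem
    have := mem_centralizer_iff.mp (mem_inf.mp hmem).2 t ht
    apply hut
    rw [this]
    group
  have hC : 2 * Nat.card ↥(V ⊓ centralizer (A : Set G)) ≤ Nat.card ↥(V ⊓ centralizer (D : Set G)) := by
    obtain ⟨k, hk⟩ := Subgroup.card_dvd_of_le hlt.le
    have hlt' : Nat.card ↥(V ⊓ centralizer (A : Set G)) < Nat.card ↥(V ⊓ centralizer (D : Set G)) :=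
      Set.ncard_lt_ncard (s := ((V ⊓ centralizer (A : Set G) : Subgroup G) : Set G))
        (t := ((V ⊓ centralizer (D : Set G) : Subgroup G) : Set G)) hlt (Set.toFinite _)
    have hpos : 0 < Nat.card ↥(V ⊓ centralizer (A : Set G)) := Nat.card_pos
    rw [hk] at hlt' ⊢
    have hk2 : 2 ≤ k := by
      by_contra hcon
      have : k = 0 ∨ k = 1 := by omega
      rcases this with rfl | rfl <;> simp at hlt'
    calc 2 * Nat.card ↥(V ⊓ centralizer (A : Set G)) = Nat.card ↥(V ⊓ centralizer (A : Set G)) * 2 := by ring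
      _ ≤ Nat.card ↥(V ⊓ centralizer (A : Set G)) * k := Nat.mul_le_mul_left _ hk2
  intro B hB
  calc Nat.card B * Nat.card ↥(V ⊓ centralizer (B : Set G))
      ≤ Nat.card A * Nat.card ↥(V ⊓ centralizer (A : Set G)) := hmax B (hB.trans inf_le_left)
    _ ≤ (2 * Nat.card D) * Nat.card ↥(V ⊓ centralizer (A : Set G)) := Nat.mul_le_mul_right _ hAD
    _ = Nat.card D * (2 * Nat.card ↥(V ⊓ centralizer (A : Set G))) := by ring
    _ ≤ Nat.card D * Nat.card ↥(V ⊓ centralizer (D : Set G)) := Nat.mul_le_mul_left _ hC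

end Cfsg.Agent.Lib.Helper7.GlS3
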