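import Cfsg.Agent.Lib.Helper7.GlS3.Defs
import Cfsg.Agent.Lib.Helper7.GlS3.XB2
import Cfsg.Agent.Lib.Helper7.GlS3.XB3
import Cfsg.Agent.Lib.Helper7.GlS3.XB45
import Cfsg.Agent.Lib.Helper89.GlS3.XB1

set_option autoImplicit false

namespace Cfsg.Agent.Lib.Helper7.GlS3

open Subgroup Cfsg.Agent.Lib.Helper48 Cfsg.Agent.Lib.Helper89.GlS3
open scoped commutatorElement

/-- XB, with `O_{2'}(X) = 1` as a hypothesis -/
theorem centralizer_VV_of {X : Type*} [Group X] [Finite X] [Group.IsSolvable X]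
    (hO : Cfsg.pPrimeCore 2 X = ⊥) (T : Sylow 2 X) :
    (centralizer (((T : Subgroup X) ⊓ centralizer ((T : Subgroup X) : Set X) : Subgroup X) :
      Set X)).normalCore = centralizer (VV 2 X : Set X) := by
  have hsep : Cfsg.IsPSolvable 2 X :=
    Cfsg.Agent.Lib.Helper11.isPSolvable_of_isSolvable 2 inferInstance
  have hc := Cfsg.Agent.Lib.Helper76.centralizer_pCore_le hsep hO
  obtain ⟨hVn, hVc, hV2, hVV⟩ := VZ_facts hc
  rw [core_eq T]
  set V : Subgroup X :=
    ⨆ S : Sylow 2 X, ((S : Subgroup X) ⊓ centralizer ((S : Subgroup X) : Set X)) with hVdef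
  set C := centralizer (V : Set X) with hC
  set K := centralizer (VV 2 X : Set X) with hK
  have hCn : C.Normal := by rw [hC]; infer_instance
  have hKn : K.Normal := by rw [hK, ← ps_ker]; infer_instance
  apply le_antisymm (centralizer_le hVV)
  by_contra hKC
  obtain ⟨L, hLn, hLK, hLC, hLL⟩ := exists_L K C hKn hKC
  have hDn : (L ⊓ C).Normal := inferInstance
  have hLLD : ⁅L, L⁆ ≤ L ⊓ C := le_inf (commutator_le_left L L) hLL
  obtain ⟨r, hr, P, hPC⟩ := exists_sylow_not_le L C hLC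
  set R := (P : Subgroup ↥L).map L.subtype with hR
  have hRL : R ≤ L := map_subtype_le _
  have hNn : (R ⊔ L ⊓ C).Normal := normal_sup L (L ⊓ C) hLn hDn inf_le_left hLLD r P
  have hRr : IsPGroup r R := P.2.map _
  -- a normal subgroup centralising some Z(S) lies in C
  have key : ∀ (N : Subgroup X), N.Normal → ∀ S : Sylow 2 X,
      N ≤ centralizer (((S : Subgroup X) ⊓ centralizer ((S : Subgroup X) : Set X) : Subgroup X) :
        Set X) → N ≤ C := by
    intro N hN S hNS
    rw [hC, ← core_eq S]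
    exact (normal_le_normalCore (N := N)).mpr hNS
  -- r ≠ 2
  have hr2 : r ≠ 2 := by
    rintro rfl
    obtain ⟨S, hS⟩ := hRr.exists_le_sylow
    apply hPC
    refine le_sup_left.trans (key _ hNn S (sup_le ?_ ?_))
    · intro x hx
      rw [mem_centralizer_iff]
      intro y hy
      exact (mem_centralizer_iff.mp (mem_inf.mp hy).2 x (hS hx)).symm
    · refine inf_le_right.trans (centralizer_le ?_)
      exact le_iSup (fun S : Sylow 2 X =>
        ((S : Subgroup X) ⊓ centralizer ((S : Subgroup X) : Set X))) S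
  -- [V, N] = [V, R]
  have hcomm : ⁅V, R ⊔ L ⊓ C⁆ = ⁅V, R⁆ := by
    apply le_antisymm _ (commutator_mono le_rfl le_sup_left)
    rw [commutator_le]
    intro v hv n hn
    have hn' : n ∈ ((R ⊔ L ⊓ C : Subgroup X) : Set X) := hn
    rw [mul_normal] at hn'
    obtain ⟨x, hx, d, hd, rfl⟩ := hn'
    have hdv : d * v⁻¹ = v⁻¹ * d :=
      (mem_centralizer_iff.mp (mem_inf.mp hd).2 v⁻¹ (V.inv_mem hv)).symm
    have : ⁅v, x * d⁆ = ⁅v, x⁆ := by
      rw [commutatorElement_def, commutatorElement_def]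
      calc v * (x * d) * v⁻¹ * (x * d)⁻¹ = v * x * (d * v⁻¹) * d⁻¹ * x⁻¹ := by group
        _ = v * x * (v⁻¹ * d) * d⁻¹ * x⁻¹ := by rw [hdv]
        _ = v * x * v⁻¹ * x⁻¹ := by group
    rw [this]
    exact commutator_mem_commutator hv hx
  have hUn : (⁅V, R⁆).Normal := by rw [← hcomm]; infer_instance
  have hUV : ⁅V, R⁆ ≤ V := commutator_le_left V R
  have hUne : ⁅V, R⁆ ≠ ⊥ := by
    intro h
    apply hPC
    rw [commutator_comm, commutator_eq_bot_iff_le_centralizer] at h
    exact h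
  obtain ⟨z, hzU, hz1, hz2, hzT⟩ := exists_central_involution T ⁅V, R⁆ hUn (hV2.to_le hUV) hUne
  have hzVV : z ∈ VV 2 X := by
    apply omegaOne_le_VV T
    exact subset_closure ⟨hzT, hz2⟩
  have hzR : z ∈ centralizer (R : Set X) := by
    rw [mem_centralizer_iff]
    intro x hx
    exact (mem_centralizer_iff.mp (hLK (hRL hx)) z hzVV).symm
  have hbot := commutator_inf_centralizer_eq_bot (V := V) (N := R) hVc
    (by rw [normalizer_eq_top_iff.mpr hVn]; exact le_top) (by
      intro v hv hvR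
      obtain ⟨k, hk⟩ := hV2 ⟨v, hv⟩
      have hk' : v ^ 2 ^ k = 1 := by simpa using congrArg Subtype.val hk
      obtain ⟨m, hm⟩ := (IsPGroup.iff_card).mp hRr
      rw [hm] at hvR
      have hcop : Nat.Coprime (2 ^ k) (r ^ m) := by
        apply Nat.Coprime.pow
        exact (Nat.coprime_primes Nat.prime_two hr.out).mpr (Ne.symm hr2)
      have h1 := orderOf_dvd_of_pow_eq_one hk'
      have h2 := orderOf_dvd_of_pow_eq_one hvR
      have h3 : orderOf v = 1 := Nat.eq_one_of_dvd_coprimes hcop h1 h2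
      exact orderOf_eq_one_iff.mp h3)
  apply hz1
  have : z ∈ ⁅V, R⁆ ⊓ centralizer (R : Set X) := mem_inf.mpr ⟨hzU, hzR⟩
  rwa [hbot, mem_bot] at this

end Cfsg.Agent.Lib.Helper7.GlS3
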