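import Cfsg.Agent.Lib.Helper7.GlS3.Defs

set_option autoImplicit false

namespace Cfsg.Agent.Lib.Helper7.GlS3

open Subgroup Cfsg.Agent.Lib.Helper48

/-- XM, with `O_{2'}(X) = 1` as a hypothesis -/
theorem amb_range_of {X : Type*} [Group X] [Finite X] [Group.IsSolvable X]
    (hO : Cfsg.pPrimeCore 2 X = ⊥) :
    Amb (la (VV 2 X)).range (ps (VV 2 X)).range := by
  have hsep : Cfsg.IsPSolvable 2 X :=
    Cfsg.Agent.Lib.Helper11.isPSolvable_of_isSolvable 2 inferInstance
  obtain ⟨hV, hD⟩ := VV_facts hsep hO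
  have hle : (ps (VV 2 X)).range ≤ (Th (VV 2 X)).range := by
    rintro _ ⟨k, rfl⟩
    exact ⟨MulAut.conj k, rfl⟩
  refine ⟨isElementaryAbelian_range_la _ hV, hle.trans (range_Th_le_normalizer _), ?_, ?_, ?_⟩
  · rw [eq_bot_iff, ← range_Th_inf_centralizer (VV 2 X)]
    exact inf_le_inf_right _ hle
  · exact Cfsg.Agent.Lib.Helper69.isPSolvable_of_surj (ps (VV 2 X)).rangeRestrict
      (ps (VV 2 X)).rangeRestrict_surjective hsep
  · have h := pCore_map_ps_eq_bot (VV 2 X) (J := ⊤) inferInstance hD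
    rw [← MonoidHom.range_eq_map] at h
    exact h

end Cfsg.Agent.Lib.Helper7.GlS3
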