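import Cfsg.Agent.Lib.Helper7.GlS3.Defs
import Cfsg.Agent.Lib.Helper7.GlS3.XM
import Cfsg.Agent.Lib.Helper7.GlS3.XB
import Cfsg.Agent.Lib.Helper74.GlS3.QA
import Cfsg.Agent.Lib.Helper20.GlS3.QB
import Cfsg.Agent.Lib.Helper61.GlS3.QC
import Cfsg.Agent.Lib.Helper7.GlS3.QE
import Cfsg.Agent.Lib.Helper74.GlS3.XO
import Cfsg.Agent.Lib.Helper98.GlS3.XD
import Cfsg.Agent.Lib.Helper74.GlS3.XE
import Cfsg.Agent.Lib.Helper2.GlS3.XT
import Cfsg.Agent.Lib.Helper2.GlS3.XR
import Cfsg.Agent.Lib.Helper74.GlS3.XH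
import Cfsg.Agent.Lib.Helper74.GlS3.XI

set_option autoImplicit false

namespace Cfsg.Agent.Lib.Helper7.GlS3

open Subgroup Cfsg.Agent.Lib.Helper48
open Cfsg.Agent.Lib.Helper74.GlS3 Cfsg.Agent.Lib.Helper20.GlS3 Cfsg.Agent.Lib.Helper61.GlS3
  Cfsg.Agent.Lib.Helper98.GlS3 Cfsg.Agent.Lib.Helper2.GlS3

/-- Q (assembly): abelian 2-subgroups with the maximum property have exponent 2. -/
theorem sq_eq_one {G : Type*} [Group G] [Finite G] {V M : Subgroup G} (h : Amb V M) :
    ∀ (n : ℕ) (A : Subgroup G), Nat.card A ≤ n → A ≤ M → IsMulCommutative A → IsPGroup 2 A →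
      MaxProd V A → ∀ a ∈ A, a ^ 2 = 1 := by
  intro n
  induction n with
  | zero =>
    intro A hn
    exact absurd hn (by have := Nat.card_pos (α := A); omega)
  | succ n ih =>
    intro A hn hAM hab hA2 hmax a ha
    have hAV : A ≤ normalizer (V : Set G) := hAM.trans h.hMV
    obtain ⟨hB, hCB⟩ := repl V A h.hV hAV hab hmax
    set B₀ := A ⊓ centralizer ((⁅V, A⁆ : Subgroup G) : Set G) with hB₀
    by_cases hne : B₀ = ⊥
    · have h1 : V = ⁅V, A⁆ ⊔ (V ⊓ centralizer (A : Set G)) := by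
        rw [← hCB, hne]
        refine (inf_eq_left.mpr ?_).symm
        intro x _
        rw [mem_centralizer_iff]
        intro y hy
        have hy1 : y = 1 := by simpa using hy
        rw [hy1, one_mul, mul_one]
      have h2 := le_centralizer_of_eq V A h.hV hAV hA2 h1
      have h3 : a ∈ M ⊓ centralizer (V : Set G) := mem_inf.mpr ⟨hAM ha, h2 ha⟩
      rw [h.hf, mem_bot] at h3
      rw [h3, one_pow]
    · obtain ⟨t, W, htB, hWV, hW4, htW, hnorm⟩ :=
        exists_plane h B₀ (inf_le_left.trans hAM) hB hne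
      have htA : t ∈ A := (mem_inf.mp htB).1
      have hcomm : ∀ x ∈ A, ∀ y ∈ A, x * y = y * x := by
        intro x hx y hy
        have := mul_comm' (⟨x, hx⟩ : A) ⟨y, hy⟩
        exact congrArg Subtype.val this
      have hAW : A ≤ normalizer (W : Set G) := fun x hx => hnorm x (hAM hx) (hcomm x hx t htA)
      obtain ⟨hmaxD, hsplit⟩ := peel V A W t h.hV hAV hab hA2 hmax htA hWV hW4 htW hAW
      have ht2 : t ^ 2 = 1 := by
        have h3 : t ^ 2 ∈ M ⊓ centralizer (V : Set G) :=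
          mem_inf.mpr ⟨M.pow_mem (hAM htA) 2, hB.2.2 t htB⟩
        rwa [h.hf, mem_bot] at h3
      set D := A ⊓ centralizer (W : Set G) with hD
      have hDlt : Nat.card D < Nat.card A := by
        apply Set.ncard_lt_ncard (s := (D : Set G)) (t := (A : Set G)) _ (Set.toFinite _)
        refine ⟨inf_le_left, fun hle => htW (mem_inf.mp (hle htA)).2⟩
      have hDab : IsMulCommutative D := ⟨⟨fun x y => Subtype.ext
        (hcomm x (mem_inf.mp x.2).1 y (mem_inf.mp y.2).1)⟩⟩
      have ihD := ih D (by omega) (inf_le_left.trans hAM) hDab (hA2.to_le inf_le_left) hmaxD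
      rcases hsplit a ha with h1 | h1
      · exact ihD a (mem_inf.mpr ⟨ha, h1⟩)
      · have h2 := ihD (a * t) (mem_inf.mpr ⟨A.mul_mem ha htA, h1⟩)
        have h3 : (a * t) ^ 2 = a ^ 2 * t ^ 2 := by
          rw [pow_two, pow_two, pow_two]
          calc a * t * (a * t) = a * (t * a) * t := by group
            _ = a * (a * t) * t := by rw [hcomm t htA a ha]
            _ = a * a * (t * t) := by group
        rw [h3, ht2, mul_one] at h2
        exact h2

/-- XF (assembly) -/
theorem bestOffender_AAll {X : Type*} [Group X] [Finite X] [Group.IsSolvable X]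
    (hF : Cfsg.fittingSubgroup X = Cfsg.pCore 2 X) (A : Subgroup X) (hA : A ∈ AAll X) :
    Cfsg.IsBestOffenderOn 2 (VV 2 X) A := by
  obtain ⟨hmax, hab, hA2⟩ := maxProd_AAll hF A hA
  refine ⟨hmax, ?_, ?_⟩
  · have : ⁅A, A⁆ = ⊥ := by
      rw [commutator_eq_bot_iff_le_centralizer]
      intro x hx
      rw [mem_centralizer_iff]
      intro y hy
      exact congrArg Subtype.val (mul_comm' (⟨y, hy⟩ : A) ⟨x, hx⟩)
    rw [this]
    exact bot_le
  · intro a ha
    have hab' : IsMulCommutative (A.map (ps (VV 2 X))) := by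
      refine ⟨⟨?_⟩⟩
      rintro ⟨_, x, hx, rfl⟩ ⟨_, y, hy, rfl⟩
      apply Subtype.ext
      change ps (VV 2 X) x * ps (VV 2 X) y = ps (VV 2 X) y * ps (VV 2 X) x
      rw [← map_mul, ← map_mul]
      exact congrArg _ (congrArg Subtype.val (mul_comm' (⟨x, hx⟩ : A) ⟨y, hy⟩))
    have h1 := sq_eq_one (amb_range_of (pPrimeCore_eq_bot hF)) _ (A.map (ps (VV 2 X))) le_rfl (map_le_range _ _) hab'
      (hA2.map _) (maxProd_map (VV 2 X) A hmax) (ps (VV 2 X) a) ⟨a, ha, rfl⟩
    rw [← map_pow] at h1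
    exact (ps_eq_one_iff (VV 2 X) _).mp h1

theorem main {X : Type*} [Group X] [Finite X]
    [Group.IsSolvable X] (hF : Cfsg.fittingSubgroup X = Cfsg.pCore 2 X) (T : Sylow 2 X) :
    ((Subgroup.centralizer (((T : Subgroup X) ⊓ Subgroup.centralizer ((T : Subgroup X) : Set X) : Subgroup X) : Set X)).normalCore
        ⊔ Subgroup.normalClosure (Cfsg.thompsonSubgroupAOf (T : Subgroup X) : Set X)
        ⊔ Subgroup.normalizer (Cfsg.thompsonSubgroupAOf (T : Subgroup X) : Set X) = ⊤) ∧
    (Subgroup.normalClosure (Cfsg.thompsonSubgroupAOf (T : Subgroup X) : Set X)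
        ≤ (Subgroup.centralizer (((T : Subgroup X) ⊓ Subgroup.centralizer ((T : Subgroup X) : Set X) : Subgroup X) : Set X)).normalCore
      ∨ ∃ n : ℕ, 1 ≤ n ∧
        Nonempty (↥(Subgroup.normalClosure (Cfsg.thompsonSubgroupAOf (T : Subgroup X) : Set X)) ⧸
            ((Subgroup.centralizer (((T : Subgroup X) ⊓ Subgroup.centralizer ((T : Subgroup X) : Set X) : Subgroup X) : Set X)).normalCore).subgroupOf
              (Subgroup.normalClosure (Cfsg.thompsonSubgroupAOf (T : Subgroup X) : Set X))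
          ≃* (Fin n → Equiv.Perm (Fin 3)))) := by
  constructor
  · rw [sup_assoc, frattiniA T, sup_top_eq]
  · by_cases hle : Subgroup.normalClosure (Cfsg.thompsonSubgroupAOf (T : Subgroup X) : Set X)
        ≤ (Subgroup.centralizer (((T : Subgroup X) ⊓ Subgroup.centralizer ((T : Subgroup X) : Set X) : Subgroup X) : Set X)).normalCore
    · exact Or.inl hle
    · right
      have hsep : Cfsg.IsPSolvable 2 X := Cfsg.Agent.Lib.Helper11.isPSolvable_of_isSolvable 2 inferInstance
      have hO := pPrimeCore_eq_bot hF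
      obtain ⟨hV, hD⟩ := VV_facts hsep hO
      have hC := centralizer_VV_of hO T
      obtain ⟨n, hn, ⟨e⟩⟩ := hyp_of_char (VV 2 X) hV hsep
        (J := Subgroup.normalClosure (Cfsg.thompsonSubgroupAOf (T : Subgroup X) : Set X))
        inferInstance (AAll X) (normalClosure_eq T) (fun A hA => bestOffender_AAll hF A hA) hD
        (by rw [← hC]; exact hle)
      obtain ⟨e'⟩ := quot_equiv (VV 2 X)
        (Subgroup.normalClosure (Cfsg.thompsonSubgroupAOf (T : Subgroup X) : Set X)) _ hC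
      exact ⟨n, hn, ⟨e'.trans e⟩⟩

end Cfsg.Agent.Lib.Helper7.GlS3
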